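import Cfsg.Agent.H941.CY.Syl

/-!
# S4829, PSL row: counting flags fixed by a lattice automorphism commuting with a `p`-group (helper941)

`FC c k l` : the flags `P ≤ U`, `dim P = k`, `dim U = l`, fixed by the lattice automorphism `c`.
`c` commutes with the `p`-group `T`, `dim C_V(T) = r < d` : modulo `p`
* `|FC c 0 r| = 1`, `|FC c 0 (r+1)| = 0` if `r + 1 < d`;
* `|FC c 1 (r+1)| = 0`, `|FC c 1 (r+2)| = |FC c 0 (r+2)|` if `r + 2 ≠ d`.
-/

set_option autoImplicit false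

open Module

namespace Cfsg.Agent.H941.CY

section lat

variable {F : Type*} [Field F] {V : Type*} [AddCommGroup V] [Module F V]

/-- the flags `(k, l)` fixed by `c` -/
abbrev FC (c : Submodule F V ≃o Submodule F V) (k l : ℕ) : Type _ :=
  {x : Submodule F V × Submodule F V // (x.1 ≤ x.2 ∧ finrank F x.1 = k ∧ finrank F x.2 = l) ∧ c x.1 = x.1 ∧ c x.2 = x.2}

instance finiteSub [Finite V] : Finite (Submodule F V) :=
  Finite.of_injective (fun W : Submodule F V => (W : Set V)) SetLike.coe_injective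

variable {T : Type*} [Group T] (ρ : T →* (V ≃ₗ[F] V))

/-- the image of a subspace -/
def mv (t : T) (U : Submodule F V) : Submodule F V := U.map (ρ t).toLinearMap

theorem mem_mv {t : T} {U : Submodule F V} {v : V} : v ∈ mv ρ t U ↔ ∃ u ∈ U, ρ t u = v := Iff.rfl

theorem mv_one (U : Submodule F V) : mv ρ 1 U = U := by
  ext v; rw [mem_mv]
  constructor
  · rintro ⟨u, hu, rfl⟩; rw [map_one]; exact hu
  · intro hv; exact ⟨v, hv, by rw [map_one]; rfl⟩

theorem mv_mul (s t : T) (U : Submodule F V) : mv ρ (s * t) U = mv ρ s (mv ρ t U) := by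
  ext v; rw [mem_mv, mem_mv]
  constructor
  · rintro ⟨u, hu, rfl⟩; exact ⟨ρ t u, ⟨u, hu, rfl⟩, by rw [map_mul]; rfl⟩
  · rintro ⟨_, ⟨u, hu, rfl⟩, rfl⟩; exact ⟨u, hu, by rw [map_mul]; rfl⟩

theorem finrank_mv (t : T) (U : Submodule F V) : finrank F (mv ρ t U) = finrank F U :=
  LinearEquiv.finrank_map_eq (ρ t) U

theorem mv_mono (t : T) {U W : Submodule F V} (h : U ≤ W) : mv ρ t U ≤ mv ρ t W := Submodule.map_mono h

theorem inv_iff {U : Submodule F V} : Inv ρ U ↔ ∀ t, mv ρ t U = U := by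
  constructor
  · intro h t
    apply le_antisymm
    · rintro _ ⟨u, hu, rfl⟩
      exact h t u hu
    · intro u hu
      refine ⟨ρ t⁻¹ u, h _ u hu, ?_⟩
      show (ρ t * ρ t⁻¹) u = u
      rw [← map_mul, mul_inv_cancel, map_one]; rfl
  · intro h t u hu
    have : ρ t u ∈ mv ρ t U := ⟨u, hu, rfl⟩
    rwa [h t] at this

/-- the group acts on the flags fixed by a lattice automorphism commuting with it -/
@[instance_reducible] def actFC {c : Submodule F V ≃o Submodule F V} (hc : ∀ t U, c (mv ρ t U) = mv ρ t (c U)) (k l : ℕ) :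
    MulAction T (FC c k l) where
  smul t x := ⟨(mv ρ t x.1.1, mv ρ t x.1.2), ⟨mv_mono ρ t x.2.1.1, by rw [finrank_mv]; exact x.2.1.2.1,
    by rw [finrank_mv]; exact x.2.1.2.2⟩, by rw [hc, x.2.2.1], by rw [hc, x.2.2.2]⟩
  one_smul x := Subtype.ext (Prod.ext (mv_one ρ _) (mv_one ρ _))
  mul_smul s t x := Subtype.ext (Prod.ext (mv_mul ρ s t _) (mv_mul ρ s t _))

variable {p : ℕ} [hp : Fact p.Prime]

/-- orbit counting on the flags -/
theorem card_FC [Finite V] (hT : IsPGroup p T) {c : Submodule F V ≃o Submodule F V}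
    (hc : ∀ t U, c (mv ρ t U) = mv ρ t (c U)) (k l : ℕ) :
    Nat.card (FC c k l) ≡ Nat.card {x : FC c k l // Inv ρ x.1.1 ∧ Inv ρ x.1.2} [MOD p] := by
  let _ : MulAction T (FC c k l) := actFC ρ hc k l
  refine (hT.card_modEq_card_fixedPoints (FC c k l)).trans ?_
  have e : MulAction.fixedPoints T (FC c k l) ≃ {x : FC c k l // Inv ρ x.1.1 ∧ Inv ρ x.1.2} :=
    Equiv.subtypeEquivRight fun x => by
      rw [inv_iff, inv_iff, ← forall_and]
      exact forall_congr' fun t => ⟨fun h => ⟨congrArg (fun y => y.1.1) h, congrArg (fun y => y.1.2) h⟩,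
        fun h => Subtype.ext (Prod.ext h.1 h.2)⟩
  rw [Nat.card_congr e]

section counts

variable [Finite F] [Finite V] [Finite T] (hT : IsPGroup p T) (hq : ¬ p ∣ Nat.card F)
  {d r : ℕ} (hd : orderOf (Nat.card F : ZMod p) = d) (hr : finrank F (fx ρ) = r) (hrd : r < d)
  {c : Submodule F V ≃o Submodule F V} (hc : ∀ t U, c (mv ρ t U) = mv ρ t (c U))
  (hcd : ∀ U, finrank F (c U) = finrank F U)
include hT hq hd hr hrd hc

omit [Finite F] [Finite V] [Finite T] hT hq hd hr hrd in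
theorem inv_c {U : Submodule F V} (hU : Inv ρ U) : Inv ρ (c U) := by
  rw [inv_iff] at hU ⊢
  intro t
  rw [← hc, hU]

include hcd in
/-- `|FC c 0 r| = 1` modulo `p` -/
theorem card_r : Nat.card (FC c 0 r) ≡ 1 [MOD p] := by
  refine (card_FC ρ hT hc 0 r).trans ?_
  have hfin : Module.Finite F V := Module.Finite.of_finite
  have hcf : c (fx ρ) = fx ρ := eq_fx hT ρ hq hd hr hrd (inv_c ρ hc (inv_fx ρ)) (by rw [hcd, hr])
  have h1 : Nat.card {x : FC c 0 r // Inv ρ x.1.1 ∧ Inv ρ x.1.2} = 1 := by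
    rw [Nat.card_eq_one_iff_unique]
    refine ⟨⟨?_⟩, ⟨⟨⟨(⊥, fx ρ), ⟨bot_le, finrank_bot F V, hr⟩, map_bot c, hcf⟩, inv_of_le_fx bot_le, inv_fx ρ⟩⟩⟩
    rintro ⟨⟨⟨P, U⟩, ⟨_, h0, h1⟩, _, _⟩, _, hU⟩ ⟨⟨⟨P', U'⟩, ⟨_, h0', h1'⟩, _, _⟩, _, hU'⟩
    apply Subtype.ext; apply Subtype.ext
    apply Prod.ext
    · exact (Submodule.finrank_eq_zero.1 h0).trans (Submodule.finrank_eq_zero.1 h0').symm
    · exact (eq_fx hT ρ hq hd hr hrd hU h1).trans (eq_fx hT ρ hq hd hr hrd hU' h1').symm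
  rw [h1]

omit hrd in
/-- `|FC c k (r + 1)| = 0` modulo `p` if `r + 1 < d` -/
theorem card_r1 (h1 : r + 1 < d) (k : ℕ) : Nat.card (FC c k (r + 1)) ≡ 0 [MOD p] := by
  refine (card_FC ρ hT hc k (r + 1)).trans ?_
  have : IsEmpty {x : FC c k (r + 1) // Inv ρ x.1.1 ∧ Inv ρ x.1.2} :=
    ⟨fun x => no_succ hT ρ hq hd hr x.2.2 x.1.2.1.2.2 h1⟩
  rw [Nat.card_of_isEmpty]

/-- `|FC c 1 (r + 1)| = 0` modulo `p` -/
theorem card_one_r1 (hd2 : 2 ≤ d) : Nat.card (FC c 1 (r + 1)) ≡ 0 [MOD p] := by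
  refine (card_FC ρ hT hc 1 (r + 1)).trans ?_
  have : IsEmpty {x : FC c 1 (r + 1) // Inv ρ x.1.1 ∧ Inv ρ x.1.2} :=
    ⟨fun x => no_flag hT ρ hq hd hr hrd x.2.1 x.2.2 x.1.2.1.1 x.1.2.1.2.1 x.1.2.1.2.2 hd2⟩
  rw [Nat.card_of_isEmpty]

include hcd in
/-- `|FC c 1 (r + 2)| = |FC c 0 (r + 2)|` modulo `p` if `r + 2 ≠ d` -/
theorem card_one_r2 (hd2 : 2 ≤ d) (hne : r + 2 ≠ d) : Nat.card (FC c 1 (r + 2)) ≡ Nat.card (FC c 0 (r + 2)) [MOD p] := by
  refine (card_FC ρ hT hc 1 (r + 2)).trans (Nat.ModEq.trans ?_ (card_FC ρ hT hc 0 (r + 2)).symm)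
  have e : {x : FC c 1 (r + 2) // Inv ρ x.1.1 ∧ Inv ρ x.1.2} ≃ {x : FC c 0 (r + 2) // Inv ρ x.1.1 ∧ Inv ρ x.1.2} :=
    { toFun := fun x => ⟨⟨(⊥, x.1.1.2), ⟨bot_le, finrank_bot F V, x.1.2.1.2.2⟩, map_bot c, x.1.2.2.2⟩,
        inv_of_le_fx bot_le, x.2.2⟩
      invFun := fun x => ⟨⟨(x.1.1.2 ⊓ fx ρ, x.1.1.2), ⟨inf_le_left,
          (exists_point hT ρ hq hd hr hrd x.2.2 x.1.2.1.2.2 hd2 hne).1, x.1.2.1.2.2⟩,
          (exists_point hT ρ hq hd hr hrd x.2.2 x.1.2.1.2.2 hd2 hne).2 _ (inv_c ρ hc (x.2.2.inf (inv_fx ρ)))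
            (by conv_rhs => rw [← x.1.2.2.2]
                exact c.monotone inf_le_left)
            (by rw [hcd]; exact (exists_point hT ρ hq hd hr hrd x.2.2 x.1.2.1.2.2 hd2 hne).1), x.1.2.2.2⟩,
        x.2.2.inf (inv_fx ρ), x.2.2⟩
      left_inv := fun x => Subtype.ext (Subtype.ext (Prod.ext
        ((exists_point hT ρ hq hd hr hrd x.2.2 x.1.2.1.2.2 hd2 hne).2 _ x.2.1 x.1.2.1.1 x.1.2.1.2.1).symm rfl))
      right_inv := fun x => Subtype.ext (Subtype.ext (Prod.ext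
        (Submodule.finrank_eq_zero.1 x.1.2.1.2.1).symm rfl)) }
  rw [Nat.card_congr e]

end counts

/-- the trivial flag -/
theorem card_zero [Finite V] (c : Submodule F V ≃o Submodule F V) : Nat.card (FC c 0 0) = 1 := by
  have hfin : Module.Finite F V := Module.Finite.of_finite
  rw [Nat.card_eq_one_iff_unique]
  refine ⟨⟨?_⟩, ⟨⟨(⊥, ⊥), ⟨le_rfl, finrank_bot F V, finrank_bot F V⟩, map_bot c, map_bot c⟩⟩⟩
  rintro ⟨⟨P, U⟩, ⟨_, h0, h1⟩, _, _⟩ ⟨⟨P', U'⟩, ⟨_, h0', h1'⟩, _, _⟩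
  exact Subtype.ext (Prod.ext ((Submodule.finrank_eq_zero.1 h0).trans (Submodule.finrank_eq_zero.1 h0').symm)
    ((Submodule.finrank_eq_zero.1 h1).trans (Submodule.finrank_eq_zero.1 h1').symm))

/-- the flags `(k, k)` are the flags `(0, k)` -/
theorem card_same [Finite V] (c : Submodule F V ≃o Submodule F V) (k : ℕ) :
    Nat.card (FC c k k) = Nat.card (FC c 0 k) := by
  have hfin : Module.Finite F V := Module.Finite.of_finite
  refine Nat.card_congr
    { toFun := fun x => ⟨(⊥, x.1.2), ⟨bot_le, finrank_bot F V, x.2.1.2.2⟩, map_bot c, x.2.2.2⟩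
      invFun := fun x => ⟨(x.1.2, x.1.2), ⟨le_rfl, x.2.1.2.2, x.2.1.2.2⟩, x.2.2.2, x.2.2.2⟩
      left_inv := fun x => Subtype.ext (Prod.ext
        (Submodule.eq_of_le_of_finrank_eq x.2.1.1 (x.2.1.2.1.trans x.2.1.2.2.symm)).symm rfl)
      right_inv := fun x => Subtype.ext (Prod.ext (Submodule.finrank_eq_zero.1 x.2.1.2.1).symm rfl) }

end lat

section psl

open Matrix

variable {F : Type*} [Field F] [Fintype F] {n : ℕ} {p : ℕ} [hp : Fact p.Prime]

/-- **the values** for a lattice automorphism commuting with a Sylow `p`-subgroup of `PSL_n(F)`;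
`d` the order of `|F|` modulo `p`, `2 ≤ d` -/
theorem values {d : ℕ} (hd : orderOf (Nat.card F : ZMod p) = d) (hd2 : 2 ≤ d)
    (Q : Sylow p (ProjectiveSpecialLinearGroup (Fin n) F))
    (c : Submodule F (Fin n → F) ≃o Submodule F (Fin n → F)) (hcd : ∀ U, finrank F (c U) = finrank F U)
    (hc : ∀ s : SpecialLinearGroup (Fin n) F, (QuotientGroup.mk s : ProjectiveSpecialLinearGroup (Fin n) F) ∈ Q →
      ∀ U, c (U.map (SpecialLinearGroup.toLin' s).toLinearMap) = (c U).map (SpecialLinearGroup.toLin' s).toLinearMap) :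
    (Nat.card (FC c 0 (n % d)) : ZMod p) = 1 ∧
    (n % d + 1 < d → ∀ k, (Nat.card (FC c k (n % d + 1)) : ZMod p) = 0) ∧
    (Nat.card (FC c 1 (n % d + 1)) : ZMod p) = 0 ∧
    (n % d + 2 ≠ d → (Nat.card (FC c 1 (n % d + 2)) : ZMod p) = Nat.card (FC c 0 (n % d + 2))) := by
  obtain ⟨T, hTp, hTi, hTQ⟩ := exists_lift Q
  have hq : ¬ p ∣ Nat.card F := by
    intro h
    rw [← ZMod.natCast_eq_zero_iff] at h
    rw [h, orderOf_eq_zero_iff'.2 (fun m hm => by rw [zero_pow hm.ne']; exact zero_ne_one)] at hd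
    omega
  have hp1 : ¬ p ∣ Nat.card F - 1 := by
    intro h
    have h1 : (Nat.card F : ZMod p) = 1 := by
      have := (Nat.modEq_iff_dvd' (Nat.card_pos (α := F))).2 h
      have := (ZMod.natCast_eq_natCast_iff _ _ _).2 this
      simpa using this.symm
    rw [h1, orderOf_one] at hd
    omega
  have hr := finrank_fx hq hp1 hd (by omega) hTp hTi
  have hrd : n % d < d := Nat.mod_lt _ (by omega)
  have hc' : ∀ t U, c (mv (rp T) t U) = mv (rp T) t (c U) := fun t U => hc t.1 (hTQ _ t.2) U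
  refine ⟨?_, fun h k => ?_, ?_, fun h => ?_⟩
  · simpa using (ZMod.natCast_eq_natCast_iff _ _ _).2 (card_r (rp T) hTp hq hd hr hrd hc' hcd)
  · simpa using (ZMod.natCast_eq_natCast_iff _ _ _).2 (card_r1 (rp T) hTp hq hd hr hc' h k)
  · simpa using (ZMod.natCast_eq_natCast_iff _ _ _).2 (card_one_r1 (rp T) hTp hq hd hr hrd hc' hd2)
  · exact (ZMod.natCast_eq_natCast_iff _ _ _).2 (card_one_r2 (rp T) hTp hq hd hr hrd hc' hcd hd2 h)

/-- the three-step combination, `d` odd, `n % d` even -/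
theorem values_three {d : ℕ} (hd : orderOf (Nat.card F : ZMod p) = d) (hd2 : 2 ≤ d) (ho : Odd d) (he : Even (n % d))
    (Q : Sylow p (ProjectiveSpecialLinearGroup (Fin n) F))
    (c : Submodule F (Fin n → F) ≃o Submodule F (Fin n → F)) (hcd : ∀ U, finrank F (c U) = finrank F U)
    (hc : ∀ s : SpecialLinearGroup (Fin n) F, (QuotientGroup.mk s : ProjectiveSpecialLinearGroup (Fin n) F) ∈ Q →
      ∀ U, c (U.map (SpecialLinearGroup.toLin' s).toLinearMap) = (c U).map (SpecialLinearGroup.toLin' s).toLinearMap) :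
    (Nat.card (FC c 1 (n % d + 2)) : ZMod p) - Nat.card (FC c 1 (n % d + 1)) - Nat.card (FC c 0 (n % d + 2)) +
      Nat.card (FC c 0 (n % d)) = 1 := by
  obtain ⟨h1, -, h2, h3⟩ := values hd hd2 Q c hcd hc
  have hne : n % d + 2 ≠ d := by
    intro h
    obtain ⟨a, ha⟩ := ho
    obtain ⟨b, hb⟩ := he
    omega
  rw [h1, h2, h3 hne]
  ring

end psl

end Cfsg.Agent.H941.CY
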