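import Mathlib

/-!
# S4829, PSL row: subspaces invariant under a `p`-group, `p` prime to `q` (helper941)

`T` a `p`-group acting linearly on `V` over `F` (`|F| = q`), `d` the order of `q` modulo `p`.  For a `T`-invariant `U`:
`dim U ≡ dim C_U(T)` modulo `d`; if `dim C_V(T) = r < d` the invariant subspaces of dimension `≤ d + 1` are controlled.
-/

set_option autoImplicit false

open Module

namespace Cfsg.Agent.H941.CY

section lin

variable {p : ℕ} [hp : Fact p.Prime] {F : Type*} [Field F] {V : Type*} [AddCommGroup V] [Module F V]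
variable {T : Type*} [Group T]

/-- `U` is invariant under the linear action `ρ` -/
def Inv (ρ : T →* (V ≃ₗ[F] V)) (U : Submodule F V) : Prop := ∀ t, ∀ u ∈ U, ρ t u ∈ U

/-- the fixed vectors -/
def fx (ρ : T →* (V ≃ₗ[F] V)) : Submodule F V where
  carrier := {v | ∀ t, ρ t v = v}
  add_mem' := fun {a b} ha hb t => by rw [map_add, ha t, hb t]
  zero_mem' := fun t => map_zero _
  smul_mem' := fun c x hx t => by rw [map_smul, hx t]

theorem mem_fx {ρ : T →* (V ≃ₗ[F] V)} {v : V} : v ∈ fx ρ ↔ ∀ t, ρ t v = v := Iff.rfl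

theorem inv_fx (ρ : T →* (V ≃ₗ[F] V)) : Inv ρ (fx ρ) := by
  intro t u hu
  rw [hu t]; exact hu

theorem inv_of_le_fx {ρ : T →* (V ≃ₗ[F] V)} {U : Submodule F V} (h : U ≤ fx ρ) : Inv ρ U := by
  intro t u hu
  rw [h hu t]; exact hu

theorem Inv.inf {ρ : T →* (V ≃ₗ[F] V)} {U W : Submodule F V} (hU : Inv ρ U) (hW : Inv ρ W) : Inv ρ (U ⊓ W) :=
  fun t u hu => ⟨hU t u hu.1, hW t u hu.2⟩

/-- orbit counting on an invariant subspace -/
theorem card_modEq [Finite V] (hT : IsPGroup p T) [Finite T] (ρ : T →* (V ≃ₗ[F] V)) {U : Submodule F V} (hU : Inv ρ U) :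
    Nat.card U ≡ Nat.card (U ⊓ fx ρ : Submodule F V) [MOD p] := by
  let _ : MulAction T U :=
    { smul := fun t u => ⟨ρ t u.1, hU t u.1 u.2⟩
      one_smul := fun u => Subtype.ext (by show ρ 1 u.1 = u.1; rw [map_one]; rfl)
      mul_smul := fun s t u => Subtype.ext (by show ρ (s * t) u.1 = ρ s (ρ t u.1); rw [map_mul]; rfl) }
  refine (hT.card_modEq_card_fixedPoints U).trans ?_
  have e : MulAction.fixedPoints T U ≃ (U ⊓ fx ρ : Submodule F V) :=
    { toFun := fun x => ⟨x.1.1, x.1.2, fun t => congrArg Subtype.val (x.2 t)⟩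
      invFun := fun x => ⟨⟨x.1, x.2.1⟩, fun t => Subtype.ext (x.2.2 t)⟩
      left_inv := fun x => rfl
      right_inv := fun x => rfl }
  rw [Nat.card_congr e]

/-- `dim U ≡ dim C_U(T)` modulo the order of `q` modulo `p` -/
theorem dvd_sub [Finite F] [Finite V] (hT : IsPGroup p T) [Finite T] (ρ : T →* (V ≃ₗ[F] V)) {U : Submodule F V}
    (hU : Inv ρ U) (hq : ¬ p ∣ Nat.card F) :
    orderOf (Nat.card F : ZMod p) ∣ finrank F U - finrank F (U ⊓ fx ρ : Submodule F V) := by
  have hfin : Module.Finite F V := Module.Finite.of_finite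
  have h := card_modEq hT ρ hU
  rw [Module.natCard_eq_pow_finrank (K := F) (V := U),
    Module.natCard_eq_pow_finrank (K := F) (V := (U ⊓ fx ρ : Submodule F V))] at h
  have hle : finrank F (U ⊓ fx ρ : Submodule F V) ≤ finrank F U := Submodule.finrank_mono inf_le_left
  have h2 : ((Nat.card F : ZMod p)) ^ finrank F U = (Nat.card F : ZMod p) ^ finrank F (U ⊓ fx ρ : Submodule F V) := by
    have := (ZMod.natCast_eq_natCast_iff _ _ _).2 h
    simpa using this
  have hq0 : (Nat.card F : ZMod p) ≠ 0 := by rwa [Ne, ZMod.natCast_eq_zero_iff]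
  rw [orderOf_dvd_iff_pow_eq_one]
  have h3 : (Nat.card F : ZMod p) ^ (finrank F U - finrank F (U ⊓ fx ρ : Submodule F V)) *
      (Nat.card F : ZMod p) ^ finrank F (U ⊓ fx ρ : Submodule F V) =
      (Nat.card F : ZMod p) ^ finrank F (U ⊓ fx ρ : Submodule F V) := by
    rw [← pow_add, Nat.sub_add_cancel hle, h2]
  exact mul_right_cancel₀ (pow_ne_zero _ hq0) (by rw [h3, one_mul])

section num

variable [Finite F] [Finite V] [Finite T] (hT : IsPGroup p T) (ρ : T →* (V ≃ₗ[F] V)) (hq : ¬ p ∣ Nat.card F)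
  {d r : ℕ} (hd : orderOf (Nat.card F : ZMod p) = d) (hr : finrank F (fx ρ) = r) (hrd : r < d)
include hT hq hd hr hrd

omit hr hrd in
theorem le_fx {U : Submodule F V} (hU : Inv ρ U) (hUd : finrank F U < d) : U ≤ fx ρ := by
  have hfin : Module.Finite F V := Module.Finite.of_finite
  have h := dvd_sub hT ρ hU hq
  rw [hd] at h
  have hle : finrank F (U ⊓ fx ρ : Submodule F V) ≤ finrank F U := Submodule.finrank_mono inf_le_left
  have h0 : finrank F U - finrank F (U ⊓ fx ρ : Submodule F V) = 0 := Nat.eq_zero_of_dvd_of_lt h (by omega)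
  have h1 : (U ⊓ fx ρ : Submodule F V) = U := Submodule.eq_of_le_of_finrank_le inf_le_left (by omega)
  exact inf_eq_left.1 h1

theorem eq_fx {U : Submodule F V} (hU : Inv ρ U) (hUr : finrank F U = r) : U = fx ρ := by
  have hfin : Module.Finite F V := Module.Finite.of_finite
  exact Submodule.eq_of_le_of_finrank_le (le_fx hT ρ hq hd hU (by omega)) (by omega)

omit hrd in
/-- there is no invariant subspace of dimension `r + 1` if `r + 1 < d` -/
theorem no_succ {U : Submodule F V} (hU : Inv ρ U) (hUr : finrank F U = r + 1) (h1 : r + 1 < d) : False := by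
  have hfin : Module.Finite F V := Module.Finite.of_finite
  have h := Submodule.finrank_mono (le_fx hT ρ hq hd hU (by omega))
  omega

/-- no invariant flag `point < (r + 1)-space` -/
theorem no_flag {P U : Submodule F V} (hP : Inv ρ P) (hU : Inv ρ U) (hPU : P ≤ U) (h1 : finrank F P = 1)
    (hUr : finrank F U = r + 1) (hd2 : 2 ≤ d) : False := by
  have hfin : Module.Finite F V := Module.Finite.of_finite
  have hPf := le_fx hT ρ hq hd hP (by omega)
  have h := dvd_sub hT ρ hU hq
  rw [hd] at h
  have hle : finrank F (U ⊓ fx ρ : Submodule F V) ≤ finrank F (fx ρ) := Submodule.finrank_mono inf_le_right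
  have h2 : finrank F P ≤ finrank F (U ⊓ fx ρ : Submodule F V) := Submodule.finrank_mono (le_inf hPU hPf)
  have h3 : 0 < finrank F U - finrank F (U ⊓ fx ρ : Submodule F V) := by omega
  have := Nat.le_of_dvd h3 h
  omega

/-- an invariant subspace of dimension `r + 2 ≠ d` contains exactly one invariant point -/
theorem exists_point {U : Submodule F V} (hU : Inv ρ U) (hUr : finrank F U = r + 2) (hd2 : 2 ≤ d) (hne : r + 2 ≠ d) :
    finrank F (U ⊓ fx ρ : Submodule F V) = 1 ∧
      ∀ P : Submodule F V, Inv ρ P → P ≤ U → finrank F P = 1 → P = U ⊓ fx ρ := by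
  have hfin : Module.Finite F V := Module.Finite.of_finite
  have h := dvd_sub hT ρ hU hq
  rw [hd] at h
  have hle : finrank F (U ⊓ fx ρ : Submodule F V) ≤ finrank F (fx ρ) := Submodule.finrank_mono inf_le_right
  have h3 : 0 < finrank F U - finrank F (U ⊓ fx ρ : Submodule F V) := by omega
  have h4 := Nat.le_of_dvd h3 h
  have h5 : finrank F (U ⊓ fx ρ : Submodule F V) = 1 := by
    obtain ⟨c, hc⟩ := h
    have hc1 : c = 1 := by
      rcases Nat.lt_trichotomy c 1 with hlt | heq | hgt
      · have : c = 0 := by omega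
        subst this; omega
      · exact heq
      · have : d * 2 ≤ d * c := Nat.mul_le_mul_left d hgt
        omega
    subst hc1
    omega
  refine ⟨h5, fun P hP hPU hP1 => ?_⟩
  have hPf := le_fx hT ρ hq hd hP (by omega)
  exact Submodule.eq_of_le_of_finrank_le (le_inf hPU hPf) (by omega)

end num

end lin

end Cfsg.Agent.H941.CY
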