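import Cfsg.Agent.H941.CY.Fix

/-!
# S4829, PSL row: the fixed vectors of a Sylow `p`-subgroup of `SL_n(q)`, `p ∤ q (q - 1)` (helper941)

`T ≤ SL_n(F)` with `p ∤ |SL_n : T|` : `dim C_V(T) < d`, hence `dim C_V(T) = n % d` if `T` is a `p`-group.
-/

set_option autoImplicit false

open Module

namespace Cfsg.Agent.H941.CY

section frames

variable {F : Type*} [Field F] {V : Type*} [AddCommGroup V] [Module F V]

theorem sumExtend_inl {ι : Type*} {v : ι → V} (hs : LinearIndependent F v) (i : ι) :
    Basis.sumExtend hs (Sum.inl i) = v i :=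
  (Basis.reindex_apply _ _ _).trans ((Basis.extend_apply_self _ _).trans rfl)

/-- the linear automorphisms are transitive on the independent `k`-tuples -/
theorem exists_equiv [FiniteDimensional F V] {k : ℕ} {v w : Fin k → V} (hv : LinearIndependent F v)
    (hw : LinearIndependent F w) : ∃ e : V ≃ₗ[F] V, ∀ i, e (v i) = w i := by
  classical
  let bv := Basis.sumExtend hv
  let bw := Basis.sumExtend hw
  have hfv : Finite (Fin k ⊕ Basis.sumExtendIndex hv) := Module.Finite.finite_basis bv
  have hfw : Finite (Fin k ⊕ Basis.sumExtendIndex hw) := Module.Finite.finite_basis bw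
  have hfv' : Finite (Basis.sumExtendIndex hv) := Finite.of_injective (Sum.inr : _ → Fin k ⊕ _) Sum.inr_injective
  have hfw' : Finite (Basis.sumExtendIndex hw) := Finite.of_injective (Sum.inr : _ → Fin k ⊕ _) Sum.inr_injective
  have h1 : Nat.card (Fin k ⊕ Basis.sumExtendIndex hv) = Nat.card (Fin k ⊕ Basis.sumExtendIndex hw) := by
    rw [← Module.finrank_eq_nat_card_basis bv, ← Module.finrank_eq_nat_card_basis bw]
  rw [Nat.card_sum, Nat.card_sum] at h1
  have h2 : Nat.card (Basis.sumExtendIndex hv) = Nat.card (Basis.sumExtendIndex hw) := by omega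
  have e1 : Basis.sumExtendIndex hv ≃ Basis.sumExtendIndex hw := (Finite.card_eq.1 h2).some
  refine ⟨bv.equiv bw (Equiv.sumCongr (Equiv.refl _) e1), fun i => ?_⟩
  have h3 : v i = bv (Sum.inl i) := (sumExtend_inl hv i).symm
  have h4 : w i = bw (Sum.inl i) := (sumExtend_inl hw i).symm
  rw [h3, h4, Basis.equiv_apply]
  rfl

/-- the pointwise stabilizer of an independent `d`-tuple has index divisible by `p` -/
theorem dvd_index_stab [Fintype F] [Finite V] {p : ℕ} [hp : Fact p.Prime] {d : ℕ}
    (hd : orderOf (Nat.card F : ZMod p) = d) (hd0 : 0 < d) {v : Fin d → V} (hv : LinearIndependent F v) :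
    p ∣ (MulAction.stabilizer (V ≃ₗ[F] V) v).index := by
  have hfin : Module.Finite F V := Module.Finite.of_finite
  have hdn : d ≤ finrank F V := by
    simpa using hv.fintype_card_le_finrank
  have h1 : (MulAction.orbit (V ≃ₗ[F] V) v) = {w : Fin d → V | LinearIndependent F w} := by
    ext w
    constructor
    · rintro ⟨e, rfl⟩
      exact hv.map' e.toLinearMap e.ker
    · intro hw
      obtain ⟨e, he⟩ := exists_equiv hv hw
      exact ⟨e, funext he⟩
  rw [MulAction.index_stabilizer, h1]
  have h2 : ({w : Fin d → V | LinearIndependent F w}).ncard = Nat.card { s : Fin d → V // LinearIndependent F s } := rfl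
  have hV : Fintype V := Fintype.ofFinite V
  rw [h2, card_linearIndependent (K := F) (V := V) hdn]
  have hlt : finrank F V % d < d := Nat.mod_lt _ hd0
  refine dvd_trans ?_ (Finset.dvd_prod_of_mem _ (Finset.mem_univ (⟨finrank F V % d, hlt⟩ : Fin d)))
  have hle : finrank F V % d ≤ finrank F V := Nat.mod_le _ _
  have h3 : Fintype.card F ^ finrank F V - Fintype.card F ^ (finrank F V % d) =
      Fintype.card F ^ (finrank F V % d) * (Fintype.card F ^ (finrank F V - finrank F V % d) - 1) := by
    rw [Nat.mul_sub, ← pow_add, Nat.add_sub_cancel' hle, mul_one]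
  show p ∣ Fintype.card F ^ finrank F V - Fintype.card F ^ (finrank F V % d)
  rw [h3]
  refine Dvd.dvd.mul_left ?_ _
  have h4 : d ∣ finrank F V - finrank F V % d := Nat.dvd_sub_mod _
  have hpos : 1 ≤ Fintype.card F ^ (finrank F V - finrank F V % d) := Nat.one_le_pow _ _ Fintype.card_pos
  rw [← (Nat.modEq_iff_dvd' hpos), ← ZMod.natCast_eq_natCast_iff]
  push_cast
  have h5 : orderOf (Nat.card F : ZMod p) ∣ finrank F V - finrank F V % d := hd ▸ h4
  rw [Nat.card_eq_fintype_card] at h5
  exact (orderOf_dvd_iff_pow_eq_one.1 h5).symm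

end frames

section sl

open Matrix

variable {F : Type*} [Field F] {n : ℕ}

/-- the action of a subgroup of `SL_n(F)` on `F ^ n` -/
def rp (T : Subgroup (SpecialLinearGroup (Fin n) F)) : T →* ((Fin n → F) ≃ₗ[F] (Fin n → F)) :=
  (SpecialLinearGroup.toLin').comp T.subtype

theorem rp_apply (T : Subgroup (SpecialLinearGroup (Fin n) F)) (t : T) (v : Fin n → F) :
    rp T t v = (t.1 : Matrix (Fin n) (Fin n) F) *ᵥ v := rfl

theorem range_toLin' : (SpecialLinearGroup.toLin' : SpecialLinearGroup (Fin n) F →* _).range =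
    (LinearEquiv.det : ((Fin n → F) ≃ₗ[F] (Fin n → F)) →* Fˣ).ker := by
  ext e
  rw [MonoidHom.mem_ker, MonoidHom.mem_range]
  have hdet : ∀ s : SpecialLinearGroup (Fin n) F, LinearEquiv.det (SpecialLinearGroup.toLin' s) = 1 := by
    intro s
    apply Units.ext
    rw [LinearEquiv.coe_det, SpecialLinearGroup.toLin'_to_linearMap, LinearMap.det_toLin', s.2]
    rfl
  constructor
  · rintro ⟨s, rfl⟩
    exact hdet s
  · intro h
    have h1 : (LinearMap.toMatrix' e.toLinearMap).det = 1 := by
      rw [LinearMap.det_toMatrix', ← LinearEquiv.coe_det, h]; rfl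
    refine ⟨(⟨_, h1⟩ : SpecialLinearGroup (Fin n) F), LinearEquiv.toLinearMap_injective ?_⟩
    exact (SpecialLinearGroup.toLin'_to_linearMap _).trans (Matrix.toLin'_toMatrix' _)

/-- **the fixed vectors of a subgroup of index prime to `p`** -/
theorem finrank_fx_lt [Fintype F] {p : ℕ} [hp : Fact p.Prime] (hp1 : ¬ p ∣ Nat.card F - 1) {d : ℕ}
    (hd : orderOf (Nat.card F : ZMod p) = d) (hd0 : 0 < d) {T : Subgroup (SpecialLinearGroup (Fin n) F)}
    (hT : ¬ p ∣ T.index) : finrank F (fx (rp T)) < d := by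
  by_contra hlt
  rw [not_lt] at hlt
  obtain ⟨v, hv⟩ : ∃ v : Fin d → fx (rp T), LinearIndependent F v :=
    exists_linearIndependent_of_le_finrank hlt
  have hv' : LinearIndependent F (fun i => ((v i : fx (rp T)) : Fin n → F)) :=
    hv.map' (fx (rp T)).subtype (Submodule.ker_subtype _)
  have h1 := dvd_index_stab hd hd0 hv'
  have h2 : T.map SpecialLinearGroup.toLin' ≤
      MulAction.stabilizer ((Fin n → F) ≃ₗ[F] (Fin n → F)) (fun i => ((v i : fx (rp T)) : Fin n → F)) := by
    rintro _ ⟨t, ht, rfl⟩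
    rw [MulAction.mem_stabilizer_iff]
    funext i
    exact (v i).2 ⟨t, ht⟩
  have h3 := h1.trans (Subgroup.index_dvd_of_le h2)
  rw [Subgroup.index_map_of_injective _ SpecialLinearGroup.toLin'_injective, range_toLin', Subgroup.index_ker] at h3
  rcases hp.out.dvd_mul.1 h3 with h | h
  · exact hT h
  · refine hp1 (h.trans ?_)
    have h4 : Nat.card F - 1 = Nat.card Fˣ := by
      classical rw [Nat.card_eq_fintype_card, ← Fintype.card_units, ← Nat.card_eq_fintype_card]
    rw [h4]
    exact Subgroup.card_subgroup_dvd_card _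

/-- the fixed vectors of a Sylow `p`-subgroup -/
theorem finrank_fx [Fintype F] {p : ℕ} [hp : Fact p.Prime] (hq : ¬ p ∣ Nat.card F) (hp1 : ¬ p ∣ Nat.card F - 1) {d : ℕ}
    (hd : orderOf (Nat.card F : ZMod p) = d) (hd0 : 0 < d) {T : Subgroup (SpecialLinearGroup (Fin n) F)}
    (hTp : IsPGroup p T) (hT : ¬ p ∣ T.index) : finrank F (fx (rp T)) = n % d := by
  have h1 := finrank_fx_lt hp1 hd hd0 hT
  have h2 := dvd_sub hTp (rp T) (U := ⊤) (fun t u _ => Submodule.mem_top) hq
  rw [top_inf_eq, finrank_top, Module.finrank_fin_fun, hd] at h2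
  have hle : finrank F (fx (rp T)) ≤ n := by
    have := Submodule.finrank_le (fx (rp T))
    rwa [Module.finrank_fin_fun] at this
  obtain ⟨c, hc⟩ := h2
  have h3 : n = finrank F (fx (rp T)) + d * c := by omega
  have h4 : n % d = finrank F (fx (rp T)) % d := by
    conv_lhs => rw [h3]
    exact Nat.add_mul_mod_self_left _ _ _
  rw [h4, Nat.mod_eq_of_lt h1]

/-- a Sylow `p`-subgroup of `SL_n(F)` above a Sylow `p`-subgroup of `PSL_n(F)` -/
theorem exists_lift [Finite F] {p : ℕ} [hp : Fact p.Prime] (Q : Sylow p (ProjectiveSpecialLinearGroup (Fin n) F)) :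
    ∃ T : Subgroup (SpecialLinearGroup (Fin n) F), IsPGroup p T ∧ ¬ p ∣ T.index ∧
      ∀ t ∈ T, (QuotientGroup.mk t : ProjectiveSpecialLinearGroup (Fin n) F) ∈ Q := by
  let f : SpecialLinearGroup (Fin n) F →* ProjectiveSpecialLinearGroup (Fin n) F := QuotientGroup.mk' _
  have hf : Function.Surjective f := QuotientGroup.mk'_surjective _
  let K : Subgroup (SpecialLinearGroup (Fin n) F) := (Q : Subgroup _).comap f
  obtain ⟨T'⟩ : Nonempty (Sylow p K) := inferInstance
  refine ⟨(T' : Subgroup K).map K.subtype, T'.isPGroup'.map _, ?_, ?_⟩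
  · rw [Subgroup.index_map_subtype, Subgroup.index_comap_of_surjective _ hf]
    intro h
    rcases hp.out.dvd_mul.1 h with h | h
    · exact T'.not_dvd_index h
    · exact Q.not_dvd_index h
  · rintro _ ⟨t, _, rfl⟩
    exact t.2

end sl

end Cfsg.Agent.H941.CY
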